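import Cfsg.Agent.OddHalf.D4.M22.Inv
import Cfsg.Agent.OddHalf.D4.EvenCyc

/-!
# The covers of `M22`: (P1) and (P2)

`K` a perfect group with `K / Z(K) ≅ M22` (no other hypothesis on `Z(K)`).

* `pairFree` : (P1) `PairFree K`;
* `sqDiff` : (P2) `SqDiff K`.
-/

set_option autoImplicit false

namespace Cfsg.Agent.OddHalf.D4.M22.Main

open Cfsg Subgroup Cfsg.Agent.J4Type.Aut22 Cfsg.Agent.OddHalf.D4.M22.Inv
open Cfsg.Agent.OddHalf.D4.EvenCyc

section Gen

variable {K X : Type*} [Group K] [Group X] {π : K →* X}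

theorem mem_center_of_map (hk : π.ker = center K) {x : K} (h : π x = 1) : x ∈ center K := by
  rw [← hk]
  exact h

theorem comm_of_center {u : K} (h : u ∈ center K) (x : K) : u * x = x * u :=
  (mem_center_iff.1 h x).symm

/-- an automorphism fixing `p` and `q` modulo the centre fixes `[p, q]` -/
theorem fix_comm (hk : π.ker = center K) (α : MulAut K) {p q : K} (hp : π (α p) = π p)
    (hq : π (α q) = π q) : α (p * q * p⁻¹ * q⁻¹) = p * q * p⁻¹ * q⁻¹ := by
  have hu : p⁻¹ * α p ∈ center K := mem_center_of_map hk (by rw [map_mul, map_inv, hp, inv_mul_cancel])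
  have hv : q⁻¹ * α q ∈ center K := mem_center_of_map hk (by rw [map_mul, map_inv, hq, inv_mul_cancel])
  set u := p⁻¹ * α p with hud
  set v := q⁻¹ * α q with hvd
  have ep : α p = p * u := by rw [hud]; group
  have eq : α q = q * v := by rw [hvd]; group
  have cu := comm_of_center hu
  have cv := comm_of_center hv
  rw [map_mul, map_mul, map_mul, map_inv, map_inv, ep, eq]
  calc p * u * (q * v) * (p * u)⁻¹ * (q * v)⁻¹
      = p * (u * q) * (v * u⁻¹) * p⁻¹ * (q * v)⁻¹ := by group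
    _ = p * (q * u) * (v * u⁻¹) * p⁻¹ * (q * v)⁻¹ := by rw [cu]
    _ = p * q * (u * v) * u⁻¹ * p⁻¹ * (q * v)⁻¹ := by group
    _ = p * q * (v * u) * u⁻¹ * p⁻¹ * (q * v)⁻¹ := by rw [cu]
    _ = p * q * (v * p⁻¹) * (q * v)⁻¹ := by group
    _ = p * q * (p⁻¹ * v) * (q * v)⁻¹ := by rw [cv]
    _ = p * q * p⁻¹ * q⁻¹ := by group

/-- an automorphism trivial modulo the centre of a perfect group is trivial -/
theorem eq_one (hk : π.ker = center K) (hK : commutator K = ⊤) {α : MulAut K}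
    (h : ∀ x, π (α x) = π x) : α = 1 := by
  have h1 : commutator K ≤ MonoidHom.eqLocus (α : K →* K) (MonoidHom.id K) := by
    rw [commutator_def, commutator_le]
    intro p _ q _
    exact fix_comm hk α (h p) (h q)
  rw [hK] at h1
  ext x
  exact h1 (mem_top x)

end Gen

variable {K : Type*} [Group K] {π : K →* Spor.M22}

/-- `g` induces on `M22` what `α` induces modulo the centre -/
def Ind (π : K →* Spor.M22) (α : MulAut K) (g : Equiv.Perm GolayPt) : Prop :=
  g ∈ D22 ∧ ∀ x, (π (α x) : Equiv.Perm GolayPt) = g * π x * g⁻¹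

theorem exists_ind (hπ : Function.Surjective π) (hk : π.ker = center K) (α : MulAut K) :
    ∃ g, Ind π α g := by
  have hk' : π.ker.map ((α : MulAut K) : K →* K) = π.ker := by
    rw [hk]
    ext x
    rw [Subgroup.mem_map]
    constructor
    · rintro ⟨y, hy, rfl⟩
      rw [mem_center_iff] at hy ⊢
      intro w
      obtain ⟨w, rfl⟩ := α.surjective w
      change α w * α y = α y * α w
      rw [← map_mul, ← map_mul, hy]
    · intro hx
      obtain ⟨y, rfl⟩ := α.surjective x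
      refine ⟨y, ?_, rfl⟩
      rw [mem_center_iff] at hx ⊢
      intro w
      apply α.injective
      rw [map_mul, map_mul, hx]
  let e := QuotientGroup.quotientKerEquivOfSurjective π hπ
  let a := QuotientGroup.congr π.ker π.ker α hk'
  let β : Spor.M22 ≃* Spor.M22 := (e.symm.trans a).trans e
  have hβ : ∀ m : K, β (π m) = π (α m) := by
    intro m
    have h1 : e.symm (π m) = QuotientGroup.mk m := by
      rw [MulEquiv.symm_apply_eq]
      rfl
    change e (a (e.symm (π m))) = _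
    rw [h1]
    rfl
  obtain ⟨g, hg, hgm⟩ := exists_conj β
  refine ⟨g, hg, fun m => ?_⟩
  rw [← hβ, hgm]

theorem Ind.unique (hπ : Function.Surjective π) {α : MulAut K} {g g' : Equiv.Perm GolayPt}
    (h : Ind π α g) (h' : Ind π α g') : g = g' := by
  have h1 : g'⁻¹ * g = 1 := by
    apply eq_one_of_centralizes (mul_mem (inv_mem h'.1) h.1)
    intro y
    obtain ⟨m, rfl⟩ := hπ y
    have h2 := h.2 m
    rw [h'.2 m] at h2
    have h3 : g'⁻¹ * (g' * (π m : Equiv.Perm GolayPt) * g'⁻¹) * g' = π m := by group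
    rw [h2] at h3
    calc g'⁻¹ * g * (π m : Equiv.Perm GolayPt) * (g'⁻¹ * g)⁻¹
        = g'⁻¹ * (g * (π m : Equiv.Perm GolayPt) * g⁻¹) * g' := by group
      _ = π m := h3
  rw [inv_mul_eq_one] at h1
  exact h1.symm

theorem Ind.mul {α β : MulAut K} {g h : Equiv.Perm GolayPt} (hc : Ind π α g) (hd : Ind π β h) :
    Ind π (α * β) (g * h) := by
  refine ⟨mul_mem hc.1 hd.1, fun m => ?_⟩
  rw [MulAut.mul_apply, hc.2, hd.2]
  group

theorem Ind.one : Ind π (1 : MulAut K) 1 := ⟨D22.one_mem, fun m => by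
  rw [MulAut.one_apply, one_mul, inv_one, mul_one]⟩

theorem Ind.conj (k : K) : Ind π (MulAut.conj k) (π k) := by
  refine ⟨M22_le_D22 (π k).2, fun n => ?_⟩
  rw [MulAut.conj_apply, map_mul, map_mul, map_inv]
  rfl

theorem Ind.eq_one (hk : π.ker = center K) (hK : commutator K = ⊤) {α : MulAut K}
    (h : Ind π α 1) : α = 1 := Main.eq_one hk hK fun x => by
  apply Subtype.ext
  rw [h.2 x, one_mul, inv_one, mul_one]

/-- `π (α x) = π x` if `π x` commutes with `g` -/
theorem Ind.fix {α : MulAut K} {g : Equiv.Perm GolayPt} (h : Ind π α g) {x : K}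
    (hx : (π x : Equiv.Perm GolayPt) * g = g * π x) : π (α x) = π x := by
  apply Subtype.ext
  rw [h.2 x, ← hx, mul_inv_cancel_right]

/-- an automorphism fixing `x` is given by an element commuting with `π x` -/
theorem Ind.comm {α : MulAut K} {g : Equiv.Perm GolayPt} (h : Ind π α g) {x : K}
    (hx : α x = x) : g * (π x : Equiv.Perm GolayPt) = π x * g := by
  have h1 := h.2 x
  rw [hx] at h1
  calc g * (π x : Equiv.Perm GolayPt) = (g * π x * g⁻¹) * g := by group
    _ = π x * g := by rw [← h1]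

/-- the key step of (P1) -/
theorem Ind.cen (hπ : Function.Surjective π) (hk : π.ker = center K) {α β : MulAut K}
    {a b : Equiv.Perm GolayPt} (ha : Ind π α a) (hb : Ind π β b) (h2 : a * a = 1) (h1 : a ≠ 1)
    (hM : a ∈ Spor.M22 → b ∈ Spor.M22) (hfix : ∀ x, α x = x → β x = x) : b = 1 ∨ b = a := by
  refine (both ha.1 h2 h1).1 b hb.1 hM ?_
  intro p hp q hq hpa hqa
  obtain ⟨p', hp'⟩ := hπ ⟨p, hp⟩
  obtain ⟨q', hq'⟩ := hπ ⟨q, hq⟩
  have ep : (π p' : Equiv.Perm GolayPt) = p := congrArg Subtype.val hp'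
  have eq : (π q' : Equiv.Perm GolayPt) = q := congrArg Subtype.val hq'
  have h3 := fix_comm hk α (ha.fix (x := p') (by rw [ep]; exact hpa))
    (ha.fix (x := q') (by rw [eq]; exact hqa))
  have h4 := hb.comm (hfix _ h3)
  have h5 : (π (p' * q' * p'⁻¹ * q'⁻¹) : Equiv.Perm GolayPt) = p * q * p⁻¹ * q⁻¹ := by
    rw [map_mul, map_mul, map_mul, map_inv, map_inv]
    change (π p' : Equiv.Perm GolayPt) * π q' * (π p' : Equiv.Perm GolayPt)⁻¹ *
      (π q' : Equiv.Perm GolayPt)⁻¹ = _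
    rw [ep, eq]
  rwa [h5] at h4

/-- **(P1)** -/
theorem pairFree_aux (hπ : Function.Surjective π) (hk : π.ker = center K)
    (hK : commutator K = ⊤) : PairFree K := by
  intro α β hα hβ hcomm hα1 hβ1 hne hfix hfix'
  obtain ⟨a, ha⟩ := exists_ind hπ hk α
  obtain ⟨b, hb⟩ := exists_ind hπ hk β
  have hab := ha.mul hb
  have one_of : ∀ {γ : MulAut K} {g : Equiv.Perm GolayPt}, Ind π γ g → γ * γ = 1 → g * g = 1 :=
    fun h h' => ((h' ▸ h.mul h : Ind π 1 _)).unique hπ Ind.one
  have ne_of : ∀ {γ : MulAut K} {g : Equiv.Perm GolayPt}, Ind π γ g → γ ≠ 1 → g ≠ 1 :=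
    fun h h' e => h' (Ind.eq_one hk hK (e ▸ h))
  have eq_of : ∀ {γ δ : MulAut K} {g : Equiv.Perm GolayPt}, Ind π γ g → Ind π δ g → γ * γ = 1 →
      δ = γ := by
    intro γ δ g h h' h2
    have h3 : Ind π (γ * δ) 1 := by
      have := h.mul h'
      rwa [one_of h h2] at this
    have h4 := h3.eq_one hk hK
    calc δ = (γ * γ) * δ := by rw [h2, one_mul]
      _ = γ * (γ * δ) := by rw [mul_assoc]
      _ = γ := by rw [h4, mul_one]
  have hαβ : (α * β) * (α * β) = 1 := by
    calc (α * β) * (α * β) = α * (β * α) * β := by group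
      _ = α * (α * β) * β := by rw [hcomm]
      _ = (α * α) * (β * β) := by group
      _ = 1 := by rw [hα, hβ, one_mul]
  have hαβ1 : α * β ≠ 1 := by
    intro h
    apply hne
    calc α = α * (β * β) := by rw [hβ, mul_one]
      _ = (α * β) * β := by rw [mul_assoc]
      _ = β := by rw [h, one_mul]
  have hb1 := ne_of hb hβ1
  by_cases h1 : a ∈ Spor.M22 → b ∈ Spor.M22
  · rcases ha.cen hπ hk hb (one_of ha hα) (ne_of ha hα1) h1 hfix with h | h
    · exact hb1 h
    · exact hne (eq_of ha (h ▸ hb) hα).symm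
  · rw [Classical.not_imp] at h1
    have h2 : a * b ∈ Spor.M22 → b ∈ Spor.M22 := by
      intro h3
      have := Spor.M22.mul_mem (Spor.M22.inv_mem h1.1) h3
      rwa [inv_mul_cancel_left] at this
    rcases hab.cen hπ hk hb (one_of hab hαβ) (ne_of hab hαβ1) h2 (fun x hx => hfix' x hx) with h | h
    · exact hb1 h
    · apply ne_of ha hα1
      calc a = (a * b) * b⁻¹ := by group
        _ = 1 := by rw [← h, mul_inv_cancel]

/-- **(P2)** -/
theorem sqDiff_aux (hπ : Function.Surjective π) (hk : π.ker = center K)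
    (hK : commutator K = ⊤) : SqDiff K := by
  intro α hα hα1
  obtain ⟨γ, hγ⟩ := exists_ind hπ hk α
  have h2 : γ * γ = 1 := (hα ▸ hγ.mul hγ : Ind π 1 _).unique hπ Ind.one
  have h1 : γ ≠ 1 := fun e => hα1 (Ind.eq_one hk hK (e ▸ hγ))
  obtain ⟨s, hs, p, hp, q, hq, p', hp', q', hq', hss, hps, hqs, hp's, hq's, ht, htn⟩ :=
    (both hγ.1 h2 h1).2
  obtain ⟨S, hS⟩ := hπ ⟨s, hs⟩
  obtain ⟨P, hP⟩ := hπ ⟨p, hp⟩
  obtain ⟨Q, hQ⟩ := hπ ⟨q, hq⟩
  obtain ⟨P', hP'⟩ := hπ ⟨p', hp'⟩
  obtain ⟨Q', hQ'⟩ := hπ ⟨q', hq'⟩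
  have eS : (π S : Equiv.Perm GolayPt) = s := congrArg Subtype.val hS
  have eP : (π P : Equiv.Perm GolayPt) = p := congrArg Subtype.val hP
  have eQ : (π Q : Equiv.Perm GolayPt) = q := congrArg Subtype.val hQ
  have eP' : (π P' : Equiv.Perm GolayPt) = p' := congrArg Subtype.val hP'
  have eQ' : (π Q' : Equiv.Perm GolayPt) = q' := congrArg Subtype.val hQ'
  -- `β`
  obtain ⟨β, hβ⟩ : ∃ β : MulAut K, β = α * MulAut.conj S := ⟨_, rfl⟩
  have hβi : Ind π β (γ * s) := by
    rw [← eS, hβ]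
    exact hγ.mul (Ind.conj S)
  have hSS : S * S ∈ center K := by
    apply mem_center_of_map hk
    apply Subtype.ext
    rw [map_mul]
    change (π S : Equiv.Perm GolayPt) * π S = 1
    rw [eS, hss]
  have hcomm22 : ∀ (A B : K), ((π (A * B * A⁻¹ * B⁻¹) : Spor.M22) : Equiv.Perm GolayPt) =
      (π A : Equiv.Perm GolayPt) * π B * (π A : Equiv.Perm GolayPt)⁻¹ * (π B : Equiv.Perm GolayPt)⁻¹ := by
    intro A B
    rw [map_mul, map_mul, map_mul, map_inv, map_inv]
    rfl
  obtain ⟨c, hc⟩ : ∃ c, c = P * Q * P⁻¹ * Q⁻¹ := ⟨_, rfl⟩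
  have hβc : β c = c := by
    rw [hc]
    exact fix_comm hk β (hβi.fix (x := P) (by rw [eP]; exact hps))
      (hβi.fix (x := Q) (by rw [eQ]; exact hqs))
  have ec : (π c : Equiv.Perm GolayPt) = p * q * p⁻¹ * q⁻¹ := by
    rw [hc, hcomm22, eP, eQ]
  -- `S` commutes with `c⁻¹ S c`
  have hSr : S * (c⁻¹ * S * c) = (c⁻¹ * S * c) * S := by
    have h3 : MulAut.conj S (P' * Q' * P'⁻¹ * Q'⁻¹) = P' * Q' * P'⁻¹ * Q'⁻¹ :=
      fix_comm hk (MulAut.conj S)
        ((Ind.conj S).fix (x := P') (by rw [eP', eS]; exact hp's))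
        ((Ind.conj S).fix (x := Q') (by rw [eQ', eS]; exact hq's))
    rw [MulAut.conj_apply] at h3
    have h4 : (P' * Q' * P'⁻¹ * Q'⁻¹)⁻¹ * (c⁻¹ * S * c) ∈ center K := by
      apply mem_center_of_map hk
      rw [map_mul, map_inv, inv_mul_eq_one]
      apply Subtype.ext
      rw [hcomm22, eP', eQ', ← ht, ← ec, ← eS, map_mul, map_mul, map_inv]
      rfl
    generalize P' * Q' * P'⁻¹ * Q'⁻¹ = w at h3 h4
    obtain ⟨u, hu⟩ : ∃ u, u = w⁻¹ * (c⁻¹ * S * c) := ⟨_, rfl⟩
    rw [← hu] at h4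
    have e5 : c⁻¹ * S * c = w * u := by rw [hu]; group
    have cu := comm_of_center h4
    have e6 : S * w = w * S := by
      calc S * w = (S * w * S⁻¹) * S := by group
        _ = w * S := by rw [h3]
    rw [e5]
    calc S * (w * u) = S * w * u := by group
      _ = w * (S * u) := by rw [e6, mul_assoc]
      _ = w * u * S := by rw [← cu S, mul_assoc]
  -- `t = β S`
  have hαc : α c = β S⁻¹ * c * β S := by
    have h3 : α c = β (S⁻¹ * c * S) := by
      rw [hβ, MulAut.mul_apply, MulAut.conj_apply]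
      congr 1
      group
    rw [h3, map_mul, map_mul, hβc]
  obtain ⟨t, htdef⟩ : ∃ t, t = β S := ⟨_, rfl⟩
  have ht' : β S⁻¹ = t⁻¹ := by rw [map_inv, htdef]
  rw [ht', ← htdef] at hαc
  have htt : t * t ∈ center K := by
    have h3 : t * t = β (S * S) := by rw [map_mul, htdef]
    rw [h3, mem_center_iff]
    intro w
    obtain ⟨w, rfl⟩ := β.surjective w
    rw [← map_mul, ← map_mul, mem_center_iff.1 hSS w]
  have htr : t * (c⁻¹ * t * c) = (c⁻¹ * t * c) * t := by
    have h3 := congrArg β hSr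
    simp only [map_mul, map_inv, hβc] at h3
    rw [← htdef] at h3
    exact h3
  have hy : (α c)⁻¹ * c = t⁻¹ * (c⁻¹ * t * c) := by
    rw [hαc]; group
  refine ⟨c, ?_, ?_⟩
  · -- not central
    intro hcen
    rw [← hk, MonoidHom.mem_ker, map_mul, map_inv, inv_mul_eq_one] at hcen
    have h3 : γ * (p * q * p⁻¹ * q⁻¹) * γ⁻¹ = p * q * p⁻¹ * q⁻¹ := by
      rw [← ec, ← hγ.2 c, hcen]
    apply htn
    have h4 : (p * q * p⁻¹ * q⁻¹) * (γ * s) = (γ * s) * (p * q * p⁻¹ * q⁻¹) := by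
      have h5 := hβi.comm hβc
      rw [ec] at h5
      exact h5.symm
    generalize p * q * p⁻¹ * q⁻¹ = d at h3 h4
    have h5 : γ * d = d * γ := by
      calc γ * d = (γ * d * γ⁻¹) * γ := by group
        _ = d * γ := by rw [h3]
    have h6 : γ * (d * s) = γ * (s * d) := by
      calc γ * (d * s) = (γ * d) * s := by group
        _ = d * (γ * s) := by rw [h5, mul_assoc]
        _ = γ * (s * d) := by rw [h4, mul_assoc]
    have h7 : d * s = s * d := mul_left_cancel h6
    calc d⁻¹ * s * d = d⁻¹ * (s * d) := by group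
      _ = s := by rw [← h7]; group
  · rw [hy]
    obtain ⟨r, hr⟩ : ∃ r, r = c⁻¹ * t * c := ⟨_, rfl⟩
    rw [← hr] at htr ⊢
    have hrr : r * r = t * t := by
      have h3 := comm_of_center htt c
      calc r * r = c⁻¹ * (t * t * c) := by rw [hr]; group
        _ = c⁻¹ * (c * (t * t)) := by rw [h3]
        _ = t * t := by group
    have h8 : r * t⁻¹ = t⁻¹ * r := by
      calc r * t⁻¹ = t⁻¹ * (t * r) * t⁻¹ := by group
        _ = t⁻¹ * (r * t) * t⁻¹ := by rw [htr]
        _ = t⁻¹ * r := by group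
    calc t⁻¹ * r * (t⁻¹ * r) = t⁻¹ * (r * t⁻¹) * r := by group
      _ = t⁻¹ * (t⁻¹ * r) * r := by rw [h8]
      _ = t⁻¹ * t⁻¹ * (r * r) := by group
      _ = 1 := by rw [hrr]; group

/-- the map onto `M22` -/
theorem exists_map {K : Type*} [Group K] (e : Nonempty (K ⧸ center K ≃* Spor.M22)) :
    ∃ π : K →* Spor.M22, Function.Surjective π ∧ π.ker = center K := by
  obtain ⟨e⟩ := e
  refine ⟨e.toMonoidHom.comp (QuotientGroup.mk' (center K)),
    e.surjective.comp (QuotientGroup.mk'_surjective _), ?_⟩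
  ext x
  rw [MonoidHom.mem_ker, MonoidHom.comp_apply]
  change e (QuotientGroup.mk' (center K) x) = 1 ↔ _
  rw [map_eq_one_iff e e.injective, QuotientGroup.mk'_apply, QuotientGroup.eq_one_iff]

/-- **(P1) for the perfect central extensions of `M22`.** -/
theorem pairFree {K : Type*} [Group K] (hK : commutator K = ⊤)
    (e : Nonempty (K ⧸ center K ≃* Spor.M22)) : PairFree K := by
  obtain ⟨π, hπ, hk⟩ := exists_map e
  exact pairFree_aux hπ hk hK

/-- **(P2) for the perfect central extensions of `M22`.** -/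
theorem sqDiff {K : Type*} [Group K] (hK : commutator K = ⊤)
    (e : Nonempty (K ⧸ center K ≃* Spor.M22)) : SqDiff K := by
  obtain ⟨π, hπ, hk⟩ := exists_map e
  exact sqDiff_aux hπ hk hK

end Cfsg.Agent.OddHalf.D4.M22.Main
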