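import Cfsg.Agent.KFacts.MM.InvOut

/-!
# Centralisers in `M24` of a list of packed permutations: certificates

`cen_of_cert`: an element of `M24` commuting with the permutations packed in `D` (and with admissible values at the
roots) is one of the elements packed in `good`.
-/

set_option autoImplicit false

namespace Cfsg.Agent.OddHalf.D4.M22.CenCert

open Cfsg Cfsg.Agent.SporadicA.GolayBase Cfsg.Agent.SporadicA.GolayPerm
open Cfsg.Agent.SporadicStructure.M24El Cfsg.Agent.KFacts.MM

/-- the word in the elements of `D` -/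
def wd (D : List ℕ) (w : List ℕ) : List ℕ := w.map fun k => D.getD k idP

theorem okl_wd {D : List ℕ} (hD : ∀ P ∈ D, ok P = true) (w : List ℕ) : El.okl (wd D w) = true := by
  unfold El.okl wd
  rw [List.all_eq_true]
  intro x hx
  obtain ⟨k, -, rfl⟩ := List.mem_map.1 hx
  exact InvM22.isPerm_of_ok (ok_getD hD k)

theorem pm_idP : El.pm idP = 1 := by
  apply El.ext_val
  intro i hi
  rw [El.val_pm (InvM22.isPerm_of_ok ok_idP) hi, El.val_one hi]
  have h : (El.pts.all fun i => Nat.beq (papp idP i) i) = true := by decide +kernel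
  rw [List.all_eq_true] at h
  exact Nat.eq_of_beq_eq_true (h i (El.mem_pts hi))

theorem comm_wd {D : List ℕ} {g : Equiv.Perm GolayPt} (hc : ∀ P ∈ D, g * El.pm P = El.pm P * g)
    (w : List ℕ) : g * El.pr (wd D w) = El.pr (wd D w) * g := by
  induction w with
  | nil => simp [wd, El.pr_nil]
  | cons k w ih =>
    have h1 : wd D (k :: w) = D.getD k idP :: wd D w := rfl
    have h2 : g * El.pm (D.getD k idP) = El.pm (D.getD k idP) * g := by
      rw [List.getD_eq_getElem?_getD]
      rcases hk : D[k]? with _ | P
      · rw [Option.getD_none, pm_idP, mul_one, one_mul]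
      · exact hc P (List.mem_of_getElem? hk)
    rw [h1, El.pr_cons, ← mul_assoc, h2, mul_assoc, ih, mul_assoc]

theorem val_wd {D : List ℕ} (hD : ∀ P ∈ D, ok P = true) {g : Equiv.Perm GolayPt}
    (hc : ∀ P ∈ D, g * El.pm P = El.pm P * g) (w : List ℕ) {i : ℕ} (hi : i < 24) :
    El.val g (El.ev (wd D w) i) = El.ev (wd D w) (El.val g i) := by
  rw [← El.val_pr (okl_wd hD w) hi, ← El.val_pr (okl_wd hD w) (El.val_lt g i), ← El.val_mul,
    ← El.val_mul, comm_wd hc w]

/-- all choices -/
def combos : List (List ℕ) → List (List ℕ)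
  | [] => [[]]
  | l :: L => l.flatMap fun a => (combos L).map fun c => a :: c

theorem mem_combos {c : List ℕ} {L : List (List ℕ)} (h : List.Forall₂ (fun a l => a ∈ l) c L) :
    c ∈ combos L := by
  induction h with
  | nil => exact List.mem_singleton.2 rfl
  | cons h1 _ ih =>
    exact List.mem_flatMap.2 ⟨_, h1, List.mem_map.2 ⟨_, ih, rfl⟩⟩

/-- a root: its index, the candidates for its image, the words excluding the others -/
abbrev Root := ℕ × List ℕ × List (List ℕ)

/-- the candidates of the roots are complete -/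
def chk1 (D : List ℕ) (adm : ℕ → ℕ → Bool) (roots : List Root) : Bool :=
  roots.all fun r => Nat.blt r.1 24 && El.pts.all fun a => !(adm r.1 a) || r.2.1.contains a ||
    r.2.2.any fun w => Nat.beq (El.ev (wd D w) r.1) r.1 && !(Nat.beq (El.ev (wd D w) a) a)

/-- the tree -/
def chk2 (D : List ℕ) (roots : List Root) (T : List (ℕ × List ℕ)) : Bool :=
  Nat.beq T.length 24 && El.pts.all fun i => Nat.blt (T.getD i (0, [])).1 roots.length &&
    Nat.beq (El.ev (wd D (T.getD i (0, [])).2) (roots.getD (T.getD i (0, [])).1 (0, [], [])).1) i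

/-- the packed table of values -/
def mk (D : List ℕ) (T : List (ℕ × List ℕ)) (c : List ℕ) : ℕ :=
  pack (T.map fun t => El.ev (wd D t.2) (c.getD t.1 0))

/-- the choices -/
def chk3 (D : List ℕ) (roots : List Root) (T : List (ℕ × List ℕ)) (good : List ℕ) : Bool :=
  (combos (roots.map fun r => r.2.1)).all fun c => !(ok (mk D T c)) || good.contains (mk D T c)

def chk (D : List ℕ) (adm : ℕ → ℕ → Bool) (roots : List Root) (T : List (ℕ × List ℕ))
    (good : List ℕ) : Bool :=
  D.all ok && chk1 D adm roots && chk2 D roots T && chk3 D roots T good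

theorem cen_of_cert {D : List ℕ} {adm : ℕ → ℕ → Bool} {roots : List Root} {T : List (ℕ × List ℕ)}
    {good : List ℕ} (h : chk D adm roots T good = true) {g : Equiv.Perm GolayPt} (hg : g ∈ M24)
    (hadm : ∀ j < 24, adm j (El.val g j) = true) (hc : ∀ P ∈ D, g * El.pm P = El.pm P * g) :
    ∃ Q ∈ good, g = El.pm Q := by
  unfold chk at h
  rw [Bool.and_eq_true, Bool.and_eq_true, Bool.and_eq_true, List.all_eq_true] at h
  obtain ⟨⟨⟨hD, h1⟩, h2⟩, h3⟩ := h
  unfold chk2 at h2
  rw [Bool.and_eq_true, Nat.beq_eq, List.all_eq_true] at h2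
  obtain ⟨hlen, h2⟩ := h2
  unfold chk1 at h1
  rw [List.all_eq_true] at h1
  -- the values at the roots
  have hroot : ∀ r ∈ roots, El.val g r.1 ∈ r.2.1 := by
    intro r hr
    have h4 := h1 r hr
    rw [Bool.and_eq_true, List.all_eq_true] at h4
    obtain ⟨hlt, h4⟩ := h4
    have hlt' : r.1 < 24 := by
      have : Nat.blt r.1 24 = true := hlt
      rw [Nat.blt_eq] at this
      exact this
    have h5 := h4 _ (El.mem_pts (El.val_lt g r.1))
    rw [hadm r.1 hlt', Bool.not_true, Bool.false_or, Bool.or_eq_true] at h5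
    rcases h5 with h5 | h5
    · exact List.contains_iff_mem.1 h5
    · exfalso
      rw [List.any_eq_true] at h5
      obtain ⟨w, -, hw⟩ := h5
      rw [Bool.and_eq_true, Nat.beq_eq, Bool.not_eq_true'] at hw
      obtain ⟨hw1, hw2⟩ := hw
      have h6 := val_wd hD hc w hlt'
      rw [hw1] at h6
      rw [← h6, Nat.beq_refl] at hw2
      cases hw2
  have hcomb : (roots.map fun r => El.val g r.1) ∈ combos (roots.map fun r => r.2.1) := by
    apply mem_combos
    rw [List.forall₂_map_left_iff, List.forall₂_map_right_iff, List.forall₂_same]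
    exact hroot
  unfold chk3 at h3
  rw [List.all_eq_true] at h3
  have h4 := h3 _ hcomb
  -- the values
  have hget : ∀ {k : ℕ}, k < roots.length →
      (roots.map fun r => El.val g r.1).getD k 0 = El.val g (roots.getD k (0, [], [])).1 := by
    intro k hk
    rw [List.getD_eq_getElem?_getD, List.getD_eq_getElem?_getD, List.getElem?_map,
      List.getElem?_eq_getElem hk]
    rfl
  have hrlt : ∀ {k : ℕ}, k < roots.length → (roots.getD k (0, [], [])).1 < 24 := by
    intro k hk
    rw [List.getD_eq_getElem?_getD, List.getElem?_eq_getElem hk, Option.getD_some]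
    have h4 := h1 _ (List.getElem_mem hk)
    rw [Bool.and_eq_true] at h4
    have : Nat.blt (roots[k]).1 24 = true := h4.1
    rw [Nat.blt_eq] at this
    exact this
  set c := roots.map fun r => El.val g r.1 with hcdef
  set l := T.map fun t => El.ev (wd D t.2) (c.getD t.1 0) with hl
  have hTi : ∀ i < 24, l.getD i 0 = El.val g i := by
    intro i hi
    have hiT : i < T.length := by rw [hlen]; exact hi
    have h5 := h2 i (El.mem_pts hi)
    rw [Bool.and_eq_true, Nat.beq_eq] at h5
    obtain ⟨h5, h6⟩ := h5
    have h5' : (T.getD i (0, [])).1 < roots.length := by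
      have : Nat.blt (T.getD i (0, [])).1 roots.length = true := h5
      rw [Nat.blt_eq] at this
      exact this
    have h7 : T.getD i (0, []) = T[i] := by
      rw [List.getD_eq_getElem?_getD, List.getElem?_eq_getElem hiT, Option.getD_some]
    have h8 : l.getD i 0 = El.ev (wd D (T.getD i (0, [])).2) (c.getD (T.getD i (0, [])).1 0) := by
      rw [hl, List.getD_eq_getElem?_getD, List.getElem?_map, List.getElem?_eq_getElem hiT, h7]
      rfl
    rw [h8, hget h5', ← val_wd hD hc _ (hrlt h5'), h6]
  have hall : ∀ a ∈ l, a < 32 := by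
    intro a ha
    obtain ⟨i, hi, rfl⟩ := List.mem_iff_getElem.1 ha
    have hi' : i < 24 := by
      rw [← hlen]
      rw [hl, List.length_map] at hi
      exact hi
    have h5 := hTi i hi'
    rw [List.getD_eq_getElem?_getD, List.getElem?_eq_getElem hi, Option.getD_some] at h5
    rw [h5]
    exact lt_trans (El.val_lt g i) (by norm_num)
  have hpapp : ∀ i < 24, papp (mk D T c) i = El.val g i := by
    intro i hi
    have : mk D T c = pack l := rfl
    rw [this, papp_pack hall, hTi i hi]
  have hperm : isPerm (mk D T c) = true := by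
    apply isPerm_of_injOn
    · intro i hi
      rw [hpapp i hi]
      exact El.val_lt g i
    · intro i j hi hj hij
      rw [hpapp i hi, hpapp j hj] at hij
      exact El.val_inj hi hj hij
  have hpm : g = El.pm (mk D T c) := by
    apply El.ext_val
    intro i hi
    rw [El.val_pm hperm hi, hpapp i hi]
  have hok : ok (mk D T c) = true := by
    rw [ok_iff]
    refine ⟨hperm, isAut_of_mem_M24 hperm ?_⟩
    rw [← El.pm_eq hperm, ← hpm]
    exact hg
  rw [hok, Bool.not_true, Bool.false_or] at h4
  exact ⟨_, List.contains_iff_mem.1 h4, hpm⟩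

end Cfsg.Agent.OddHalf.D4.M22.CenCert
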