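import Cfsg.Agent.OddHalf.D4.M22.CenCert

/-!
# Data for the involutions of `M22:2`

For `x` one of the three involutions `zP`, `bP`, `cP`: `D_x` two commutators `[p, q]` of elements of `C(x)` (`C_x` the
list of `(p, q, [p, q])`), certificate for the centraliser; `S_x = (s, c, p, q, t, p', q')` with `[p, q] = c` commuting
with `x s`, `t = s^c = [p', q']`, `p', q'` commuting with `s`.
-/

set_option autoImplicit false

namespace Cfsg.Agent.OddHalf.D4.M22.Data

def cZ : List (ℕ × ℕ × ℕ) := [
  (970399532908254816336136008238580896,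
    975610848306556154143292146539599392,
    973121634796187022320434771509974560),
  (967698667160609576155028894037609920,
    967893667436737452593027219114331584,
    963835842514064438119990511449606176)]

def rZ : List CenCert.Root := [
  (0, [0], []),
  (1, [1, 2], [[1]]),
  (4, [4, 8, 18, 22], [[0, 1]]),
  (8, [4, 8, 18, 22], [[0, 1]]),
  (23, [23], [])]

def tZ : List (ℕ × List ℕ) := [
  (0, []), (1, []), (1, [0, 1, 0, 0]), (1, [1, 0, 0]), (2, []), (1, [1, 0]),
  (2, [1, 1, 1]), (2, [1]), (3, []), (3, [1, 1, 1]), (3, [1]), (3, [1, 0]),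
  (3, [1, 1, 1, 0]), (2, [1, 1, 0]), (1, [0, 0]), (3, [0]), (2, [0]), (1, [0]),
  (3, [1, 1]), (2, [1, 0]), (3, [1, 1, 0]), (2, [1, 1, 1, 0]), (2, [1, 1]), (4, [])]

def sZ : ℕ × ℕ × ℕ × ℕ × ℕ × ℕ × ℕ := (
  961365507626256404119956257276790816,
  971787747110272345172396117582742624,
  974307504632800976014358830767135328,
  956951589114681777673690839538683232,
  980224387687010295957922729495201824,
  961116864305648857899682034004179040,
  982083490027532815809945564846539936)

def cB : List (ℕ × ℕ × ℕ) := [
  (976356274317064406599343276053475392,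
    959526865742107951153026642208701824,
    981968545795192192624184450986972352),
  (983455037055833232032025868407816672,
    981956797805871824049517387612342464,
    962782259060728915246104876322864704)]

def rB : List CenCert.Root := [
  (0, [0, 23], []),
  (1, [1, 22], [[1, 1, 1, 1, 0]]),
  (7, [7], [[1, 1, 0]]),
  (23, [0, 23], [])]

def tB : List (ℕ × List ℕ) := [
  (0, []), (1, []), (1, [0, 1]), (1, [0, 0]), (1, [1, 0]), (1, [0, 0, 1]),
  (1, [0]), (2, []), (2, [0, 1, 0, 0]), (2, [0]), (2, [1, 0, 0]), (2, [1]),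
  (1, [1, 0, 0, 1]), (1, [0, 0, 0]), (2, [0, 0]), (1, [1, 0, 1]), (1, [1, 0, 0, 0]), (2, [1, 0]),
  (1, [1]), (2, [1, 1, 0, 0]), (1, [0, 0, 1, 0]), (1, [0, 1, 0, 1]), (1, [0, 1, 0]), (3, [])]

def sB : ℕ × ℕ × ℕ × ℕ × ℕ × ℕ × ℕ := (
  958241592925172551187255922413132288,
  962168680034570844482473440429387872,
  959539305635965970933836610578978368,
  959954614866094872224401008140457536,
  984778571922801353358945941669349408,
  958687443345747271073676155778390240,
  984765540040175282404183904049596704)

def cC : List (ℕ × ℕ × ℕ) := [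
  (977661759051723945926353620031357376,
    984123533318656985197794748301380224,
    963753444490453607953783642719880416),
  (981448892250645216137297046363282624,
    984404989996146640795157331214174720,
    976478195137320711466021204684555968)]

def rC : List CenCert.Root := [
  (0, [0, 23], []),
  (1, [1, 3, 6, 8, 10, 13], [[0, 1, 1, 0]]),
  (3, [3, 10], [[0]]),
  (10, [3, 10], [[0]]),
  (23, [0, 23], [])]

def tC : List (ℕ × List ℕ) := [
  (0, []), (1, []), (1, [1, 1, 0]), (2, []), (1, [0, 0, 0]), (1, [1, 0, 0]),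
  (1, [1, 0]), (1, [0]), (1, [1, 0, 1, 1, 0, 0]), (1, [0, 1, 0, 0]), (3, []), (1, [0, 0, 1, 0]),
  (1, [0, 0]), (1, [1, 1, 0, 0]), (1, [1, 1, 1]), (1, [1, 0, 1, 1]), (1, [1, 1]), (1, [1, 1, 1, 0]),
  (1, [1, 1, 1, 0, 0]), (1, [0, 1, 1]), (1, [0, 1, 0]), (1, [0, 1, 1, 0, 0]), (1, [1]), (4, [])]

def sC : ℕ × ℕ × ℕ × ℕ × ℕ × ℕ × ℕ := (
  980884823720551302367760286722672672,
  979606937554410003397593622672377888,
  968455471245712962972267932295535808,
  984249663431475994196259382578465824,
  958191205210014188301951160125872160,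
  965048681388072635977825719266137344,
  967943086226297564523835108600597600)

end Cfsg.Agent.OddHalf.D4.M22.Data
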