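import Cfsg.Agent.OddHalf.D4.M22.Data

/-!
# Two properties of the involutions of `M22:2`

* `Cen γ` : an element of `D22` (of `M22` if `γ ∈ M22`) commuting with all commutators of elements of `C_{M22}(γ)` is
  `1` or `γ`;
* `SqD γ` : `γ = h s`, `s ∈ M22` an involution, `c` a commutator of elements of `C_{M22}(h)`, `s^c ≠ s` a commutator of
  elements of `C_{M22}(s)`.

`cen`, `sqD` : both hold for every involution of `D22`.
-/

set_option autoImplicit false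

namespace Cfsg.Agent.OddHalf.D4.M22.Inv

open Cfsg Cfsg.Agent.SporadicA.GolayBase Cfsg.Agent.SporadicA.GolayPerm
open Cfsg.Agent.SporadicStructure.M24El Cfsg.Agent.KFacts.MM Cfsg.Agent.J4Type.Aut22
open Cfsg.Agent.OddHalf.D4.M22.Data

/-- the centraliser of the commutators -/
def Cen (γ : Equiv.Perm GolayPt) : Prop :=
  ∀ b ∈ D22, (γ ∈ Spor.M22 → b ∈ Spor.M22) →
    (∀ p ∈ Spor.M22, ∀ q ∈ Spor.M22, p * γ = γ * p → q * γ = γ * q →
      b * (p * q * p⁻¹ * q⁻¹) = (p * q * p⁻¹ * q⁻¹) * b) → b = 1 ∨ b = γ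

/-- the data for (P2) -/
def SqD (γ : Equiv.Perm GolayPt) : Prop :=
  ∃ s ∈ Spor.M22, ∃ p ∈ Spor.M22, ∃ q ∈ Spor.M22, ∃ p' ∈ Spor.M22, ∃ q' ∈ Spor.M22,
    s * s = 1 ∧ p * (γ * s) = (γ * s) * p ∧ q * (γ * s) = (γ * s) * q ∧
    p' * s = s * p' ∧ q' * s = s * q' ∧
    (p * q * p⁻¹ * q⁻¹)⁻¹ * s * (p * q * p⁻¹ * q⁻¹) = p' * q' * p'⁻¹ * q'⁻¹ ∧
    (p * q * p⁻¹ * q⁻¹)⁻¹ * s * (p * q * p⁻¹ * q⁻¹) ≠ s

/-! ### Conjugation -/

theorem conj_D22 {m b : Equiv.Perm GolayPt} (hm : m ∈ Spor.M22) (hb : b ∈ D22) :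
    m⁻¹ * b * m ∈ D22 :=
  D22.mul_mem (D22.mul_mem (D22.inv_mem (M22_le_D22 hm)) hb) (M22_le_D22 hm)

theorem Cen.conj {γ m : Equiv.Perm GolayPt} (hm : m ∈ Spor.M22) (h : Cen γ) :
    Cen (m * γ * m⁻¹) := by
  intro b hb hb' hc
  have h1 := h (m⁻¹ * b * m) (conj_D22 hm hb) (fun hγ => by
    have h2 := hb' (Spor.M22.mul_mem (Spor.M22.mul_mem hm hγ) (Spor.M22.inv_mem hm))
    exact Spor.M22.mul_mem (Spor.M22.mul_mem (Spor.M22.inv_mem hm) h2) hm) (by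
    intro p hp q hq hpγ hqγ
    have h3 := hc (m * p * m⁻¹) (Spor.M22.mul_mem (Spor.M22.mul_mem hm hp) (Spor.M22.inv_mem hm))
      (m * q * m⁻¹) (Spor.M22.mul_mem (Spor.M22.mul_mem hm hq) (Spor.M22.inv_mem hm))
      (by
        calc m * p * m⁻¹ * (m * γ * m⁻¹) = m * (p * γ) * m⁻¹ := by group
          _ = m * γ * m⁻¹ * (m * p * m⁻¹) := by rw [hpγ]; group)
      (by
        calc m * q * m⁻¹ * (m * γ * m⁻¹) = m * (q * γ) * m⁻¹ := by group
          _ = m * γ * m⁻¹ * (m * q * m⁻¹) := by rw [hqγ]; group)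
    calc m⁻¹ * b * m * (p * q * p⁻¹ * q⁻¹)
        = m⁻¹ * (b * (m * p * m⁻¹ * (m * q * m⁻¹) * (m * p * m⁻¹)⁻¹ * (m * q * m⁻¹)⁻¹)) * m := by
          group
      _ = p * q * p⁻¹ * q⁻¹ * (m⁻¹ * b * m) := by rw [h3]; group)
  rcases h1 with h1 | h1
  · left
    calc b = m * (m⁻¹ * b * m) * m⁻¹ := by group
      _ = 1 := by rw [h1]; group
  · right
    calc b = m * (m⁻¹ * b * m) * m⁻¹ := by group
      _ = m * γ * m⁻¹ := by rw [h1]

theorem SqD.conj {γ m : Equiv.Perm GolayPt} (hm : m ∈ Spor.M22) (h : SqD γ) :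
    SqD (m * γ * m⁻¹) := by
  obtain ⟨s, hs, p, hp, q, hq, p', hp', q', hq', h1, h2, h3, h4, h5, h6, h7⟩ := h
  have hc : ∀ {x : Equiv.Perm GolayPt}, x ∈ Spor.M22 → m * x * m⁻¹ ∈ Spor.M22 := fun hx =>
    Spor.M22.mul_mem (Spor.M22.mul_mem hm hx) (Spor.M22.inv_mem hm)
  refine ⟨_, hc hs, _, hc hp, _, hc hq, _, hc hp', _, hc hq', ?_, ?_, ?_, ?_, ?_, ?_, ?_⟩
  · calc m * s * m⁻¹ * (m * s * m⁻¹) = m * (s * s) * m⁻¹ := by group
      _ = 1 := by rw [h1]; group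
  · calc m * p * m⁻¹ * (m * γ * m⁻¹ * (m * s * m⁻¹)) = m * (p * (γ * s)) * m⁻¹ := by group
      _ = _ := by rw [h2]; group
  · calc m * q * m⁻¹ * (m * γ * m⁻¹ * (m * s * m⁻¹)) = m * (q * (γ * s)) * m⁻¹ := by group
      _ = _ := by rw [h3]; group
  · calc m * p' * m⁻¹ * (m * s * m⁻¹) = m * (p' * s) * m⁻¹ := by group
      _ = _ := by rw [h4]; group
  · calc m * q' * m⁻¹ * (m * s * m⁻¹) = m * (q' * s) * m⁻¹ := by group
      _ = _ := by rw [h5]; group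
  · calc _ = m * ((p * q * p⁻¹ * q⁻¹)⁻¹ * s * (p * q * p⁻¹ * q⁻¹)) * m⁻¹ := by group
      _ = _ := by rw [h6]; group
  · intro e
    apply h7
    calc _ = m⁻¹ * ((m * p * m⁻¹ * (m * q * m⁻¹) * (m * p * m⁻¹)⁻¹ * (m * q * m⁻¹)⁻¹)⁻¹ *
        (m * s * m⁻¹) * (m * p * m⁻¹ * (m * q * m⁻¹) * (m * p * m⁻¹)⁻¹ * (m * q * m⁻¹)⁻¹)) * m := by
          group
      _ = s := by rw [e]; group

/-! ### Certificates -/

/-- a packed element of `M22` -/
def ok22 (P : ℕ) : Bool := ok P && Nat.beq (papp P 23) 23 && Nat.beq (papp P 0) 0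

theorem ok22_ok {P : ℕ} (h : ok22 P = true) : ok P = true := by
  unfold ok22 at h
  rw [Bool.and_eq_true, Bool.and_eq_true] at h
  exact h.1.1

theorem mem22 {P : ℕ} (h : ok22 P = true) : El.pm P ∈ Spor.M22 := by
  unfold ok22 at h
  rw [Bool.and_eq_true, Bool.and_eq_true, Nat.beq_eq, Nat.beq_eq] at h
  obtain ⟨⟨h1, h2⟩, h3⟩ := h
  rw [Cfsg.Agent.SporadicA.MathieuRecog.mem_M22_iff]
  refine ⟨InvM22.pm_mem h1, ?_, ?_⟩
  · rw [← InvOut.pt_23, InvOut.pm_pt h1 (by norm_num), h2]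
  · rw [← InvOut.pt_0, InvOut.pm_pt h1 (by norm_num), h3]

/-- `(p, q, d)` : `p, q ∈ C_{M22}(γ)`, `d = [p, q]` -/
def rowC (γ : ℕ) (t : ℕ × ℕ × ℕ) : Bool :=
  ok22 t.1 && ok22 t.2.1 && ok22 t.2.2 && El.weq [t.1, γ] [γ, t.1] && El.weq [t.2.1, γ] [γ, t.2.1] &&
    El.weq [t.2.2, t.2.1, t.1] [t.1, t.2.1]

theorem okl3 {A B C : ℕ} (hA : ok A = true) (hB : ok B = true) (hC : ok C = true) :
    El.okl [A, B, C] = true := by
  unfold El.okl
  rw [List.all_cons, List.all_cons, List.all_cons, List.all_nil, InvM22.isPerm_of_ok hA,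
    InvM22.isPerm_of_ok hB, InvM22.isPerm_of_ok hC]
  rfl

theorem rowC_spec {γ : ℕ} (hγ : ok γ = true) {t : ℕ × ℕ × ℕ} (h : rowC γ t = true) :
    El.pm t.1 ∈ Spor.M22 ∧ El.pm t.2.1 ∈ Spor.M22 ∧ ok t.2.2 = true ∧
      El.pm t.1 * El.pm γ = El.pm γ * El.pm t.1 ∧
      El.pm t.2.1 * El.pm γ = El.pm γ * El.pm t.2.1 ∧
      El.pm t.2.2 = El.pm t.1 * El.pm t.2.1 * (El.pm t.1)⁻¹ * (El.pm t.2.1)⁻¹ := by
  unfold rowC at h
  rw [Bool.and_eq_true, Bool.and_eq_true, Bool.and_eq_true, Bool.and_eq_true, Bool.and_eq_true] at h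
  obtain ⟨⟨⟨⟨⟨h1, h2⟩, h3⟩, h4⟩, h5⟩, h6⟩ := h
  refine ⟨mem22 h1, mem22 h2, ok22_ok h3, InvOut.pm_of_weq (ok22_ok h1) hγ hγ (ok22_ok h1) h4,
    InvOut.pm_of_weq (ok22_ok h2) hγ hγ (ok22_ok h2) h5, ?_⟩
  have h7 := El.pr_of_weq (okl3 (ok22_ok h3) (ok22_ok h2) (ok22_ok h1))
    (InvOut.okl_two (ok22_ok h1) (ok22_ok h2)) h6
  rw [El.pr_cons, El.pr_cons, El.pr_one, El.pr_cons, El.pr_one] at h7
  rw [← h7]
  group

/-- the certificate for `Cen` -/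
def chkC (γ : ℕ) (c : List (ℕ × ℕ × ℕ)) (adm : ℕ → ℕ → Bool) (r : List CenCert.Root)
    (t : List (ℕ × List ℕ)) : Bool :=
  ok γ && c.all (rowC γ) && CenCert.chk (c.map fun x => x.2.2) adm r t [idP, γ]

theorem cen_of_chk {γ : ℕ} {c : List (ℕ × ℕ × ℕ)} {adm : ℕ → ℕ → Bool} {r : List CenCert.Root}
    {t : List (ℕ × List ℕ)} (h : chkC γ c adm r t = true)
    (hadm : ∀ b ∈ D22, (El.pm γ ∈ Spor.M22 → b ∈ Spor.M22) → ∀ j < 24, adm j (El.val b j) = true) :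
    Cen (El.pm γ) := by
  unfold chkC at h
  rw [Bool.and_eq_true, Bool.and_eq_true, List.all_eq_true] at h
  obtain ⟨⟨hγ, hc⟩, hk⟩ := h
  intro b hb hb' hcom
  obtain ⟨Q, hQ, e⟩ := CenCert.cen_of_cert hk ((mem_D22_iff b).1 hb).1 (hadm b hb hb') (by
    intro P hP
    obtain ⟨x, hx, rfl⟩ := List.mem_map.1 hP
    obtain ⟨h1, h2, -, h4, h5, h6⟩ := rowC_spec hγ (hc x hx)
    rw [h6]
    exact hcom _ h1 _ h2 h4 h5)
  rw [List.mem_cons, List.mem_singleton] at hQ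
  rcases hQ with rfl | rfl
  · left
    rw [e, CenCert.pm_idP]
  · right
    exact e

/-- the certificate for `SqD` -/
def chkS (γ : ℕ) (d : ℕ × ℕ × ℕ × ℕ × ℕ × ℕ × ℕ) : Bool :=
  match d with
  | (s, c, p, q, t, p', q') =>
    ok γ && ok22 s && ok22 c && ok22 p && ok22 q && ok22 t && ok22 p' && ok22 q' &&
      El.weq [s, s] [] && El.weq [p, γ, s] [γ, s, p] && El.weq [q, γ, s] [γ, s, q] &&
      El.weq [p', s] [s, p'] && El.weq [q', s] [s, q'] && El.weq [c, q, p] [p, q] &&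
      El.weq [s, c] [c, t] && El.weq [t, q', p'] [p', q'] && !(El.weq [t] [s])

theorem sqD_of_chk {γ : ℕ} {d : ℕ × ℕ × ℕ × ℕ × ℕ × ℕ × ℕ} (h : chkS γ d = true) :
    SqD (El.pm γ) := by
  obtain ⟨s, c, p, q, t, p', q'⟩ := d
  unfold chkS at h
  simp only [Bool.and_eq_true, Bool.not_eq_true'] at h
  obtain ⟨⟨⟨⟨⟨⟨⟨⟨⟨⟨⟨⟨⟨⟨⟨⟨hγ, hs⟩, hc⟩, hp⟩, hq⟩, ht⟩, hp'⟩, hq'⟩, h1⟩, h2⟩, h3⟩, h4⟩, h5⟩, h6⟩, h7⟩,
    h8⟩, h9⟩ := h
  have os := ok22_ok hs
  have oc := ok22_ok hc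
  have op := ok22_ok hp
  have oq := ok22_ok hq
  have ot := ok22_ok ht
  have op' := ok22_ok hp'
  have oq' := ok22_ok hq'
  have e1 := El.pr_of_weq (InvOut.okl_two os os) (m := []) rfl h1
  rw [El.pr_cons, El.pr_one, El.pr_nil] at e1
  have e2 := El.pr_of_weq (okl3 op hγ os) (okl3 hγ os op) h2
  rw [El.pr_cons, El.pr_cons, El.pr_one, El.pr_cons, El.pr_cons, El.pr_one] at e2
  have e3 := El.pr_of_weq (okl3 oq hγ os) (okl3 hγ os oq) h3
  rw [El.pr_cons, El.pr_cons, El.pr_one, El.pr_cons, El.pr_cons, El.pr_one] at e3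
  have e4 := InvOut.pm_of_weq op' os os op' h4
  have e5 := InvOut.pm_of_weq oq' os os oq' h5
  have e6 := El.pr_of_weq (okl3 oc oq op) (InvOut.okl_two op oq) h6
  rw [El.pr_cons, El.pr_cons, El.pr_one, El.pr_cons, El.pr_one] at e6
  have e7 := InvOut.pm_of_weq os oc oc ot h7
  have e8 := El.pr_of_weq (okl3 ot oq' op') (InvOut.okl_two op' oq') h8
  rw [El.pr_cons, El.pr_cons, El.pr_one, El.pr_cons, El.pr_one] at e8
  have okl1 : ∀ {A : ℕ}, ok A = true → El.okl [A] = true := by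
    intro A hA
    unfold El.okl
    rw [List.all_cons, List.all_nil, InvM22.isPerm_of_ok hA]
    rfl
  have e9 := El.pr_ne (okl1 ot) (okl1 os) h9
  rw [El.pr_one, El.pr_one] at e9
  have ec : El.pm p * El.pm q * (El.pm p)⁻¹ * (El.pm q)⁻¹ = El.pm c := by
    rw [← e6]; group
  have et : (El.pm c)⁻¹ * El.pm s * El.pm c = El.pm t := by
    rw [mul_assoc, e7]; group
  have et' : El.pm p' * El.pm q' * (El.pm p')⁻¹ * (El.pm q')⁻¹ = El.pm t := by
    rw [← e8]; group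
  refine ⟨_, mem22 hs, _, mem22 hp, _, mem22 hq, _, mem22 hp', _, mem22 hq', e1, ?_, ?_, e4, e5,
    ?_, ?_⟩
  · rw [e2, mul_assoc]
  · rw [e3, mul_assoc]
  · rw [ec, et, et']
  · rw [ec, et]
    exact e9

/-! ### The three involutions -/

/-- admissible values for an element of `M22` -/
def admI (j a : ℕ) : Bool := (Nat.beq j 0 == Nat.beq a 0) && (Nat.beq j 23 == Nat.beq a 23)

/-- admissible values for an element of `D22` -/
def admO (j a : ℕ) : Bool := (Nat.beq j 0 || Nat.beq j 23) == (Nat.beq a 0 || Nat.beq a 23)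

theorem val_eq_iff {b : Equiv.Perm GolayPt} {j k : ℕ} (hj : j < 24) (hk : k < 24) (e : El.val b k = k) :
    Nat.beq j k = Nat.beq (El.val b j) k := by
  by_cases h : j = k
  · rw [h, e]
  · have h1 : El.val b j ≠ k := fun h1 => h (El.val_inj hj hk (h1.trans e.symm))
    have h2 : Nat.beq j k = false := by
      rw [Bool.eq_false_iff]
      exact fun h3 => h (Nat.eq_of_beq_eq_true h3)
    have h4 : Nat.beq (El.val b j) k = false := by
      rw [Bool.eq_false_iff]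
      exact fun h3 => h1 (Nat.eq_of_beq_eq_true h3)
    rw [h2, h4]

theorem admI_of {b : Equiv.Perm GolayPt} (hb : b ∈ Spor.M22) {j : ℕ} (hj : j < 24) :
    admI j (El.val b j) = true := by
  rw [Cfsg.Agent.SporadicA.MathieuRecog.mem_M22_iff] at hb
  have h0 : El.val b 0 = 0 := by
    unfold El.val
    rw [InvOut.pt_0, hb.2.2, ← InvOut.pt_0, idx_pt (by norm_num)]
  have h23 : El.val b 23 = 23 := by
    unfold El.val
    rw [InvOut.pt_23, hb.2.1, ← InvOut.pt_23, idx_pt (by norm_num)]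
  unfold admI
  rw [← val_eq_iff hj (by norm_num) h0, ← val_eq_iff hj (by norm_num) h23]
  simp

theorem admO_of {b : Equiv.Perm GolayPt} (hb : b ∈ D22) {j : ℕ} (hj : j < 24) :
    admO j (El.val b j) = true := by
  have h := ((mem_D22_iff b).1 hb).2
  unfold admO
  rcases h with ⟨h1, h2⟩ | ⟨h1, h2⟩
  · have h0 : El.val b 0 = 0 := by
      unfold El.val
      rw [InvOut.pt_0, h2, ← InvOut.pt_0, idx_pt (by norm_num)]
    have h23 : El.val b 23 = 23 := by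
      unfold El.val
      rw [InvOut.pt_23, h1, ← InvOut.pt_23, idx_pt (by norm_num)]
    rw [← val_eq_iff hj (by norm_num) h0, ← val_eq_iff hj (by norm_num) h23]
    simp
  · have h0 : El.val b 0 = 23 := by
      unfold El.val
      rw [InvOut.pt_0, h2, ← InvOut.pt_23, idx_pt (by norm_num)]
    have h23 : El.val b 23 = 0 := by
      unfold El.val
      rw [InvOut.pt_23, h1, ← InvOut.pt_0, idx_pt (by norm_num)]
    by_cases hj0 : j = 0
    · subst hj0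
      rw [h0]
      rfl
    by_cases hj1 : j = 23
    · subst hj1
      rw [h23]
      rfl
    have h3 : El.val b j ≠ 0 := fun h3 => hj1 (El.val_inj hj (by norm_num) (h3.trans h23.symm))
    have h4 : El.val b j ≠ 23 := fun h4 => hj0 (El.val_inj hj (by norm_num) (h4.trans h0.symm))
    have hf : ∀ {a k : ℕ}, a ≠ k → Nat.beq a k = false := by
      intro a k hak
      rw [Bool.eq_false_iff]
      exact fun h5 => hak (Nat.eq_of_beq_eq_true h5)
    rw [hf hj0, hf hj1, hf h3, hf h4]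
    rfl

theorem chkC_z : chkC KFacts.MM.Data.zP cZ admI rZ tZ = true := by decide +kernel
theorem chkC_b : chkC InvOut.bP cB admO rB tB = true := by decide +kernel
theorem chkC_c : chkC InvOut.cP cC admO rC tC = true := by decide +kernel
theorem chkS_z : chkS KFacts.MM.Data.zP sZ = true := by decide +kernel
theorem chkS_b : chkS InvOut.bP sB = true := by decide +kernel
theorem chkS_c : chkS InvOut.cP sC = true := by decide +kernel

theorem z_mem : El.pm KFacts.MM.Data.zP ∈ Spor.M22 := mem22 (by decide +kernel)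

theorem cen_z : Cen (El.pm KFacts.MM.Data.zP) :=
  cen_of_chk chkC_z fun _ _ h _ hj => admI_of (h z_mem) hj

theorem cen_b : Cen (El.pm InvOut.bP) := cen_of_chk chkC_b fun _ hb _ _ hj => admO_of hb hj

theorem cen_c : Cen (El.pm InvOut.cP) := cen_of_chk chkC_c fun _ hb _ _ hj => admO_of hb hj

theorem both {γ : Equiv.Perm GolayPt} (hγ : γ ∈ D22) (h2 : γ * γ = 1) (h1 : γ ≠ 1) :
    Cen γ ∧ SqD γ := by
  by_cases h : γ ∈ Spor.M22
  · obtain ⟨m, hm, rfl⟩ := InvM22.inv22 γ h h2 h1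
    exact ⟨cen_z.conj hm, (sqD_of_chk chkS_z).conj hm⟩
  · obtain ⟨m, hm, e⟩ := InvOut.inv_out hγ h h2
    rcases e with rfl | rfl
    · exact ⟨cen_b.conj hm, (sqD_of_chk chkS_b).conj hm⟩
    · exact ⟨cen_c.conj hm, (sqD_of_chk chkS_c).conj hm⟩

end Cfsg.Agent.OddHalf.D4.M22.Inv
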